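import Groth.Agent.Lib.LocAcycBC6.Vanish
import Groth.Agent.Lib.EtRep3.Flc

/-!
# First cohomology classes of finite locally constant sheaves are killed by finite étale covers
-/

universe u

set_option autoImplicit false
set_option linter.style.haveILetI false
set_option backward.isDefEq.respectTransparency false
set_option backward.isDefEq.respectTransparency.types false

open CategoryTheory CategoryTheory.Limits AlgebraicGeometry Opposite CategoryTheory.Abelian

namespace Groth.Agent.TorsorRep24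

open Groth.Agent.EtSite Groth.Agent.EtRep3

variable {Z : Scheme.{u}}

theorem mem_range_of_exact {S : ShortComplex (EtCoh.Ab Z)} (hS : S.ShortExact) (W : Z.Etale)
    (y : S.X₂.obj.obj (op W)) (hy : S.g.hom.app (op W) y = 0) : ∃ x, S.f.hom.app (op W) x = y := by
  haveI := hS.mono_f
  let ev := sheafToPresheaf Z.smallEtaleTopology AddCommGrpCat.{u + 1} ⋙ (evaluation _ _).obj (op W)
  haveI : ev.Additive := { }
  have hex' := hS.exact.map_of_mono_of_preservesKernel ev inferInstance inferInstance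
  rw [ShortComplex.ab_exact_iff] at hex'
  exact hex' y hy

variable {S : ShortComplex (EtCoh.Ab Z)} (a : S.X₃.obj.obj (op (EtCoh.top Z)))

/-- The sheaf of lifts of a global section. -/
noncomputable def lifts : Z.Etaleᵒᵖ ⥤ Type (u + 1) where
  obj W := {y : S.X₂.obj.obj W //
    S.g.hom.app W y = S.X₃.obj.map ((EtCore.topIsTerminal Z).from W.unop).op a}
  map {V W} r := ↾fun y => ⟨S.X₂.obj.map r y.1, by
    rw [NatTrans.naturality_apply S.g.hom r, y.2, ← ConcreteCategory.comp_apply, ← S.X₃.obj.map_comp]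
    exact congrArg (fun t => S.X₃.obj.map t a) (Quiver.Hom.unop_inj ((EtCore.topIsTerminal Z).hom_ext _ _))⟩
  map_id V := by
    ext y
    exact ConcreteCategory.congr_hom (S.X₂.obj.map_id V) y.1
  map_comp f g := by
    ext y
    exact (ConcreteCategory.congr_hom (S.X₂.obj.map_comp f g) y.1).trans (ConcreteCategory.comp_apply _ _ _)

theorem isSheaf_lifts : Presieve.IsSheaf Z.smallEtaleTopology (lifts a) := by
  intro W R hR
  have h2 := EtRep3.isSheaf_forget S.X₂ R hR
  have h3 := EtRep3.isSheaf_forget S.X₃ R hR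
  rw [← Presieve.isSeparatedFor_and_exists_isAmalgamation_iff_isSheafFor]
  refine ⟨fun x t t' ht ht' => Subtype.ext (h2.isSeparatedFor.ext fun V g hg =>
    congrArg Subtype.val ((ht g hg).trans (ht' g hg).symm)), fun x hx => ?_⟩
  obtain ⟨y, hy, -⟩ := h2 (fun V g hg => (x g hg).1)
    (fun Y₁ Y₂ T g₁ g₂ f₁ f₂ h₁ h₂ e => congrArg Subtype.val (hx g₁ g₂ h₁ h₂ e))
  refine ⟨⟨y, h3.isSeparatedFor.ext fun V g hg => ?_⟩, fun V g hg => Subtype.ext (hy g hg)⟩
  show S.X₃.obj.map g.op (S.g.hom.app (op W) y) = S.X₃.obj.map g.op (S.X₃.obj.map _ a)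
  rw [← NatTrans.naturality_apply S.g.hom g.op, show S.X₂.obj.map g.op y = (x g hg).1 from hy g hg,
    (x g hg).2, ← ConcreteCategory.comp_apply, ← S.X₃.obj.map_comp]
  exact congrArg (fun t => S.X₃.obj.map t a) (Quiver.Hom.unop_inj ((EtCore.topIsTerminal Z).hom_ext _ _))

theorem exists_local_lift (hS : S.ShortExact) (U : Z.Etale) (y : U.left) :
    ∃ (V : Z.Etale) (f : V ⟶ U) (v : V.left), f.left v = y ∧ Nonempty ((lifts a).obj (op V)) := by
  haveI : Epi S.g := hS.epi_g
  haveI : Sheaf.IsLocallySurjective S.g := (Sheaf.isLocallySurjective_iff_epi' _ S.g).2 inferInstance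
  have hcov := Presheaf.imageSieve_mem Z.smallEtaleTopology S.g.hom
    (U := op U) (S.X₃.obj.map ((EtCore.topIsTerminal Z).from U).op a)
  rw [EtSite.mem_et_iff] at hcov
  obtain ⟨V, f, v, ⟨b, hb⟩, hv⟩ := hcov y
  refine ⟨V, f, v, hv, ⟨⟨b, hb.trans ?_⟩⟩⟩
  rw [← ConcreteCategory.comp_apply, ← S.X₃.obj.map_comp]
  exact congrArg (fun t => S.X₃.obj.map t a) (Quiver.Hom.unop_inj ((EtCore.topIsTerminal Z).hom_ext _ _))

theorem locFinite_lifts (hS : S.ShortExact) (hF : EtCoh.IsFiniteLocallyConstant S.X₁) :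
    LocFinite (lifts a) := by
  obtain ⟨ι, U, hU, hfr⟩ := locFinite_of_flc hF
  choose i y hy using hU
  choose V f v hv hb using fun z : Z => exists_local_lift a hS (U (i z)) (y z)
  refine ⟨Z, V, fun z => ⟨z, v z, ?_⟩, fun z => ?_⟩
  · have h := congrArg (fun φ : (V z).left ⟶ Z => φ (v z)) (MorphismProperty.Over.w (f z))
    exact h.symm.trans ((congrArg (U (i z)).hom (hv z)).trans (hy z))
  obtain ⟨⟨b, hb'⟩⟩ := hb z
  obtain ⟨n, t, ht⟩ := hfr (i z)
  haveI := hS.mono_f
  have hinj := (EtStalk.mono_iff_app_injective S.f).1 inferInstance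
  let s : Fin n → (lifts a).obj (op (V z)) := fun m =>
    ⟨S.f.hom.app _ (S.X₁.obj.map (f z).op (t m)) + b, by
      rw [map_add, hb']
      have h0 : ∀ x, S.g.hom.app (op (V z)) (S.f.hom.app (op (V z)) x) = 0 := fun x =>
        ConcreteCategory.congr_hom (congrArg (fun q => q.hom.app (op (V z))) S.zero) x
      rw [h0, zero_add]⟩
  refine ⟨n, s, ⟨fun W c hW m m' h => ?_, fun W c q x => ?_⟩⟩
  · refine ht.ne W (c ≫ f z) hW m m' (hinj _ ?_)
    have h' := congrArg Subtype.val h
    change S.X₂.obj.map c.op (_ + b) = S.X₂.obj.map c.op (_ + b) at h'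
    rw [map_add, map_add, add_left_inj, ← NatTrans.naturality_apply S.f.hom,
      ← NatTrans.naturality_apply S.f.hom] at h'
    show S.f.hom.app _ (S.X₁.obj.map (c ≫ f z).op (t m)) = S.f.hom.app _ (S.X₁.obj.map (c ≫ f z).op (t m'))
    rw [op_comp, Functor.map_comp_apply, Functor.map_comp_apply]
    exact h'
  · have hbW : S.g.hom.app (op W) (q.1 - S.X₂.obj.map c.op b) = 0 := by
      rw [map_sub, q.2, NatTrans.naturality_apply S.g.hom c.op, hb', ← ConcreteCategory.comp_apply,
        ← S.X₃.obj.map_comp, sub_eq_zero]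
      exact congrArg (fun r => S.X₃.obj.map r a) (Quiver.Hom.unop_inj ((EtCore.topIsTerminal Z).hom_ext _ _))
    obtain ⟨p, hp⟩ := mem_range_of_exact hS W _ hbW
    obtain ⟨W', d, hd, m, hm⟩ := ht.loc W (c ≫ f z) p x
    refine ⟨W', d, hd, m, Subtype.ext ?_⟩
    show S.X₂.obj.map (d ≫ c).op (S.f.hom.app _ (S.X₁.obj.map (f z).op (t m)) + b) = S.X₂.obj.map d.op q.1
    change S.X₁.obj.map (d ≫ c ≫ f z).op (t m) = S.X₁.obj.map d.op p at hm
    rw [map_add, ← NatTrans.naturality_apply S.f.hom,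
      show S.X₁.obj.map (d ≫ c).op (S.X₁.obj.map (f z).op (t m)) = S.X₁.obj.map d.op p by
        rw [← hm, ← Functor.map_comp_apply, ← op_comp, Category.assoc],
      NatTrans.naturality_apply S.f.hom, hp, map_sub, op_comp, Functor.map_comp_apply, sub_add_cancel]

/-- A first cohomology class of a finite locally constant sheaf is killed by a finite étale cover. -/
theorem exists_finite_etale_kills {F : EtCoh.Ab Z} (hF : EtCoh.IsFiniteLocallyConstant F)
    (ζ : EtCoh.H Z F 1) :
    ∃ (W : Z.Etale), IsFinite W.hom ∧ Surjective W.hom ∧ EtCore.Hpull W.hom F 1 ζ = 0 := by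
  let S : ShortComplex (EtCoh.Ab Z) :=
    ShortComplex.mk (Injective.ι F) (cokernel.π (Injective.ι F)) (cokernel.condition _)
  have hS : S.ShortExact := { exact := ShortComplex.exact_cokernel _ }
  haveI : Injective S.X₂ := inferInstanceAs (Injective (Injective.under F))
  obtain ⟨s, rfl⟩ := Ext.covariant_sequence_exact₁ _ hS ζ (Ext.eq_zero_of_injective _) (n₀ := 0) rfl
  obtain ⟨α, rfl⟩ := (Ext.mk₀_bijective _ _).2 s
  let a := α.hom.app (op (EtCoh.top Z)) (EtStalk.oneSec Z)
  obtain ⟨U₀, hfin, t₀, ht₀⟩ := EtRep3.exists_rep (isSheaf_lifts (S := S) a) (locFinite_lifts a hS hF)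
  refine ⟨U₀, hfin, ⟨fun z => ?_⟩, ?_⟩
  · obtain ⟨V, f, v, hv, ⟨b⟩⟩ := exists_local_lift (S := S) a hS (EtCoh.top Z) z
    obtain ⟨g, -⟩ := (ht₀ V).2 b
    refine ⟨g.left v, ?_⟩
    have h1 := congrArg (fun φ : V.left ⟶ Z => φ v) (MorphismProperty.Over.w g)
    have h2 := congrArg (fun φ : V.left ⟶ Z => φ v) ((Category.comp_id _).symm.trans (MorphismProperty.Over.w f))
    exact h1.trans (h2.symm.trans hv)
  · exact LocAcycBC6.Hpull_eq_zero_of_lift hS U₀ α t₀.1 t₀.2

end Groth.Agent.TorsorRep24
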